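import Groth.Agent.HilbLoc.Injective
import Groth.Agent.TangentFin.Tangent

/-!
# Functions on `W × Spec k[ε]`
-/

set_option autoImplicit false
set_option linter.unusedSectionVars false
universe u

open CategoryTheory CategoryTheory.Limits AlgebraicGeometry IsLocalRing ArtFun TopologicalSpace
open Groth.Agent.DefGlue

namespace Groth.Agent.HilbLoc.Normal

variable {k : Type u} [Field k] {X : Scheme.{u}} (x : X ⟶ Spec (CommRingCat.of k))

/-- `ε`. -/
noncomputable abbrev eps : Art.dual k k := DefAffHull.epsD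

theorem res_eps : (Art.dual k k).res eps = (0 : k) := rfl

theorem eps_ne_zero : (eps : Art.dual k k) ≠ 0 := fun he =>
  one_ne_zero (α := k) (congrArg (TrivSqZeroExt.snd (R := k)) he)

theorem mul_eps : ∀ m ∈ maximalIdeal (Art.dual k k), m * eps = 0 := fun z hz => TrivSqZeroExt.ext
  ((TrivSqZeroExt.fst_mul (R := k) (M := k) z eps).trans (mul_zero _))
  ((DefAffHull.snd_mul_epsD z).trans ((Art.mem_maximalIdeal_iff _ z).1 hz))

/-- `f + ε b`. -/
noncomputable def pt (W : X.Opens) (f b : Γ(X, W)) : S x (Art.dual k k) W :=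
  cst x _ W f + str x _ W eps * cst x _ W b

variable {x}

theorem red_pt (W : X.Opens) (f b : Γ(X, W)) : red x _ W (pt x W f b) = f := by
  rw [pt, map_add, map_mul, red_cst, red_str, res_eps, map_zero, zero_mul, add_zero]

theorem pt_add (W : X.Opens) (f b f' b' : Γ(X, W)) :
    pt x W f b + pt x W f' b' = pt x W (f + f') (b + b') := by
  simp only [pt, map_add]
  ring

theorem str_eps_sq (W : X.Opens) : str x (Art.dual k k) W eps * str x _ W eps = 0 := by
  rw [← map_mul, mul_eps eps ((Art.mem_maximalIdeal_iff _ _).2 res_eps), map_zero]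

theorem pt_mul (W : X.Opens) (f b f' b' : Γ(X, W)) :
    pt x W f b * pt x W f' b' = pt x W (f * f') (f * b' + b * f') := by
  simp only [pt, map_add, map_mul]
  linear_combination (cst x _ W b * cst x _ W b') * str_eps_sq (x := x) W

theorem rs_pt {W W' : X.Opens} (h : W' ≤ W) (f b : Γ(X, W)) :
    rs x _ h (pt x W f b) = pt x W' (X.presheaf.map (homOfLE h).op f) (X.presheaf.map (homOfLE h).op b) := by
  simp only [pt, map_add, map_mul, rs_cst, rs_str]

theorem eps_mul (W : X.affineOpens) (w : S x (Art.dual k k) W.1) :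
    str x _ W.1 eps * w = str x _ W.1 eps * cst x _ W.1 (red x _ W.1 w) := by
  rw [← sub_eq_zero, ← mul_sub]
  exact str_mul_eq_zero x mul_eps W (by rw [map_sub, red_cst, sub_self])

theorem exists_pt (W : X.affineOpens) (s : S x (Art.dual k k) W.1) :
    ∃ b, s = pt x W.1 (red x _ W.1 s) b := by
  have h : s - cst x _ W.1 (red x _ W.1 s) ∈ (Ideal.span {(eps : Art.dual k k)}).map (str x (Art.dual k k) W.1) :=
    Ideal.map_mono TangentFin.maximalIdeal_dual
      (mem_maximal_of_red_eq_zero x _ W (by rw [map_sub, red_cst, sub_self]))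
  rw [Ideal.map_span, Set.image_singleton, Ideal.mem_span_singleton'] at h
  obtain ⟨w, hw⟩ := h
  refine ⟨red x _ W.1 w, ?_⟩
  rw [pt, ← eps_mul, mul_comm, hw, add_sub_cancel]

theorem pt_inj (W : X.affineOpens) {f b f' b' : Γ(X, W.1)} (h : pt x W.1 f b = pt x W.1 f' b') :
    f = f' ∧ b = b' := by
  have h1 : f = f' := by rw [← red_pt (x := x) W.1 f b, h, red_pt]
  subst h1
  refine ⟨rfl, ?_⟩
  let := (sHom x W.1).toAlgebra
  have hD := isDef x (Art.dual k k) W.1 W.2
  have h2 : cst x _ W.1 (b - b') ∈ (maximalIdeal (Art.dual k k)).map (str x (Art.dual k k) W.1) := by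
    refine DefAut.mem_map_of_mul_mem hD.flat (fun hh => eps_ne_zero (Ideal.mem_bot.1 hh)) ?_
    rw [Ideal.map_bot, Ideal.mem_bot, map_sub, mul_sub]
    simpa [pt, sub_eq_zero] using h
  have h3 : red x _ W.1 (cst x (Art.dual k k) W.1 (b - b')) = 0 := by
    refine (Ideal.map_le_iff_le_comap.2 fun a ha => ?_ : _ ≤ RingHom.ker (red x _ W.1)) h2
    rw [Ideal.mem_comap, RingHom.mem_ker, red_str, (Art.mem_maximalIdeal_iff _ a).1 ha, map_zero]
  rwa [red_cst, sub_eq_zero] at h3

theorem mem_fam_of_eps {I₀ : X.IdealSheafData} (z : (localHilb X x I₀).obj (Art.dual k k))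
    (W : X.affineOpens) {b : Γ(X, W.1)} (hb : str x _ W.1 eps * cst x _ W.1 b ∈ fam x z.1 W) :
    b ∈ I₀.ideal W := by
  let := (sHom x W.1).toAlgebra
  have h := (goodAt_fam x I₀ z W).mem_of_mul_mem (isDef x _ W.1 W.2) eps_ne_zero hb
  rwa [red_cst] at h

theorem exists_pt_mem {I₀ : X.IdealSheafData} (z : (localHilb X x I₀).obj (Art.dual k k))
    (W : X.affineOpens) {f : Γ(X, W.1)} (hf : f ∈ I₀.ideal W) : ∃ b, pt x W.1 f b ∈ fam x z.1 W := by
  let := (sHom x W.1).toAlgebra
  obtain ⟨j, hj, hjf⟩ := (goodAt_fam x I₀ z W).exists_lift (isDef x _ W.1 W.2) hf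
  obtain ⟨b, hb⟩ := exists_pt W j
  exact ⟨b, by rw [← hjf, ← hb]; exact hj⟩

theorem eps_cst_mem {I₀ : X.IdealSheafData} (z : (localHilb X x I₀).obj (Art.dual k k))
    (W : X.affineOpens) {b : Γ(X, W.1)} (hb : b ∈ I₀.ideal W) :
    str x _ W.1 eps * cst x _ W.1 b ∈ fam x z.1 W := by
  obtain ⟨c, hc⟩ := exists_pt_mem z W hb
  have h := Ideal.mul_mem_left (fam x z.1 W) (str x _ W.1 eps) hc
  rwa [eps_mul, red_pt] at h

end Groth.Agent.HilbLoc.Normal
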