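import Groth.Agent.HilbLoc.Normal.Coeff

/-!
# Deformations over `k[ε]` inside `X` as morphisms on the ideal sheaf
-/

set_option autoImplicit false
set_option linter.unusedSectionVars false
set_option backward.isDefEq.respectTransparency false
universe u

open CategoryTheory CategoryTheory.Limits AlgebraicGeometry IsLocalRing ArtFun TopologicalSpace
open Groth.Agent.DefGlue

namespace Groth.Agent.HilbLoc.Normal

variable {k : Type u} [Field k] {X Y : Scheme.{u}} (x : X ⟶ Spec (CommRingCat.of k)) (i : Y ⟶ X)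

/-- `i_* O_Y`. -/
noncomputable abbrev pushO : X.Modules :=
  (Scheme.Modules.pushforward i).obj (Coh.structureModule Y)

/-- Restriction to `Y`. -/
noncomputable def toY (W : X.Opens) : Γ(X, W) →+ Γ(pushO i, W) := (i.app W).hom.toAddMonoidHom

theorem toY_smul (W : X.Opens) (r s : Γ(X, W)) : toY i W (r * s) = r • toY i W s :=
  map_mul (i.app W).hom r s

theorem toY_map {W W' : X.Opens} (h : W' ≤ W) (r : Γ(X, W)) :
    (pushO i).presheaf.map (homOfLE h).op (toY i W r) = toY i W' (X.presheaf.map (homOfLE h).op r) :=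
  congr($(i.naturality (homOfLE h).op) r).symm

variable [IsClosedImmersion i]

theorem toY_surjective (W : X.affineOpens) : Function.Surjective (toY i W.1) :=
  i.app_surjective W.1 W.2

theorem toY_eq_zero (W : X.affineOpens) (r : Γ(X, W.1)) : toY i W.1 r = 0 ↔ r ∈ i.ker.ideal W := by
  rw [Scheme.Hom.ker_apply]
  rfl

set_option linter.dupNamespace false in
/-- The morphisms attached to deformations. -/
abbrev Normal : Type u := ClSub.idealMod i.ker ⟶ pushO i

/-- The ideal attached to a morphism. -/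
noncomputable def graph (ψ : Normal i) (W : X.affineOpens) : Set (S x (Art.dual k k) W.1) :=
  {s | ∃ m b, pt x W.1 (OmegaSh.idealSect i.ker W.1 m) b = s ∧ ψ.app W.1 m = toY i W.1 b}

variable {x i}

theorem mem_graph {ψ : Normal i} {W : X.affineOpens} {m : Γ(ClSub.idealMod i.ker, W.1)} {b : Γ(X, W.1)} :
    pt x W.1 (OmegaSh.idealSect i.ker W.1 m) b ∈ graph x i ψ W ↔ ψ.app W.1 m = toY i W.1 b := by
  refine ⟨?_, fun h => ⟨m, b, rfl, h⟩⟩
  rintro ⟨m', b', he, h⟩
  obtain ⟨hm, rfl⟩ := pt_inj W he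
  rw [ConormalSection.idealSect_injective i.ker W.1 hm] at h
  exact h

theorem exists_ideal (ψ : Normal i) (W : X.affineOpens) :
    ∃ J : Ideal (S x (Art.dual k k) W.1), (J : Set (S x (Art.dual k k) W.1)) = graph x i ψ W := by
  refine ⟨{ carrier := graph x i ψ W, add_mem' := ?_, zero_mem' := ?_, smul_mem' := ?_ }, rfl⟩
  · rintro _ _ ⟨m, b, rfl, h⟩ ⟨m', b', rfl, h'⟩
    exact ⟨m + m', b + b', by rw [pt_add, map_add], by rw [map_add, map_add, h, h']⟩
  · exact ⟨0, 0, by simp [pt], by rw [map_zero, map_zero]⟩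
  · rintro s _ ⟨m, b, rfl, h⟩
    obtain ⟨c, hc⟩ := exists_pt W s
    refine ⟨red x _ W.1 s • m, red x _ W.1 s * b + c * OmegaSh.idealSect i.ker W.1 m, ?_, ?_⟩
    · conv_rhs => rw [smul_eq_mul, hc, pt_mul]
      rw [ConormalSection.idealSect_smul]
    · rw [Scheme.Modules.Hom.app_smul, h, map_add, toY_smul,
        (toY_eq_zero i W _).2 (Ideal.mul_mem_left _ _ (ConormalSection.idealSect_mem i.ker W m)), add_zero]

/-- The ideal of `ψ` over `W`. -/
noncomputable def idl (x : X ⟶ Spec (CommRingCat.of k)) (ψ : Normal i) (W : X.affineOpens) :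
    Ideal (S x (Art.dual k k) W.1) := (exists_ideal ψ W).choose

theorem mem_idl {ψ : Normal i} {W : X.affineOpens} {s : S x (Art.dual k k) W.1} :
    s ∈ idl x ψ W ↔ s ∈ graph x i ψ W := Set.ext_iff.1 (exists_ideal ψ W).choose_spec s

theorem map_idl (ψ : Normal i) (W W' : X.affineOpens) (r : Γ(X, W.1)) (e : W'.1 = X.basicOpen r) :
    (idl x ψ W).map (rs x _ (e.le.trans (X.basicOpen_le r))) = idl x ψ W' := by
  have he := e.le.trans (X.basicOpen_le r)
  refine le_antisymm (Ideal.map_le_iff_le_comap.2 fun s hs => ?_) fun s hs => ?_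
  · obtain ⟨m, b, rfl, h⟩ := mem_idl.1 hs
    rw [Ideal.mem_comap, mem_idl, rs_pt, ← idealSect_map i.ker he, mem_graph, QCohLib.app_map ψ he, h, toY_map]
  obtain ⟨n, s₀, hn⟩ := exists_rs_eq x _ W.2 r e s
  obtain ⟨b₀, hb₀⟩ := exists_pt W s₀
  have h1 : rs x _ he s₀ ∈ idl x ψ W' := hn ▸ Ideal.mul_mem_right _ _ hs
  obtain ⟨m', b', hmb, hψ⟩ := mem_idl.1 h1
  rw [hb₀, rs_pt] at hmb
  obtain ⟨hf, hb⟩ := pt_inj W' hmb
  have hf0 : (X.presheaf.map (homOfLE he).op (red x _ W.1 s₀)) ∈ i.ker.ideal W' :=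
    hf ▸ ConormalSection.idealSect_mem i.ker W' m'
  let := (X.presheaf.map (homOfLE he).op).hom.toAlgebra
  haveI : IsLocalization.Away r Γ(X, W'.1) := W.2.isLocalization_of_eq_basicOpen r (homOfLE he) e
  have hpow : ∀ g : Γ(X, W.1), X.presheaf.map (homOfLE he).op g ∈ i.ker.ideal W' →
      ∃ j, r ^ j * g ∈ i.ker.ideal W := by
    intro g hg
    rw [← i.ker.map_ideal (U := W') (V := W) he] at hg
    obtain ⟨_, ⟨j, rfl⟩, hj⟩ :=
      (IsLocalization.algebraMap_mem_map_algebraMap_iff (Submonoid.powers r) _ (i.ker.ideal W) g).1 hg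
    exact ⟨j, hj⟩
  obtain ⟨j, hj⟩ := hpow _ hf0
  obtain ⟨m₀, hm₀⟩ := ConormalSection.exists_idealSect_eq i.ker W _ hj
  obtain ⟨c, hc⟩ := toY_surjective i W (ψ.app W.1 m₀)
  have h2 : X.presheaf.map (homOfLE he).op (r ^ j * b₀ - c) ∈ i.ker.ideal W' := by
    rw [← toY_eq_zero, map_sub, map_sub, ← toY_map i he c, hc, ← QCohLib.app_map ψ he, map_mul, toY_smul, ← hb,
      ← hψ, ← Scheme.Modules.Hom.app_smul, sub_eq_zero]
    refine congrArg (ψ.app W'.1) (ConormalSection.idealSect_injective i.ker W'.1 ?_)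
    rw [ConormalSection.idealSect_smul, idealSect_map, hm₀, map_mul, hf]
  obtain ⟨l, hl⟩ := hpow _ h2
  have h4 : cst x _ W.1 r ^ (l + j) * s₀ ∈ idl x ψ W := by
    have h5 : cst x _ W.1 r ^ (l + j) * s₀ = pt x W.1
        (OmegaSh.idealSect i.ker W.1 (r ^ l • m₀)) (r ^ (l + j) * b₀) := by
      rw [ConormalSection.idealSect_smul, hm₀]
      conv_lhs => rw [hb₀]
      simp only [pt, map_mul, map_pow]
      ring
    rw [h5, mem_idl, mem_graph, Scheme.Modules.Hom.app_smul, ← hc, ← toY_smul, ← sub_eq_zero, ← map_sub,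
      toY_eq_zero, pow_add, ← neg_mem_iff]
    simpa [mul_sub, mul_assoc] using hl
  have h6 := Ideal.mem_map_of_mem (rs x (Art.dual k k) he) h4
  rw [map_mul, map_pow, ← hn] at h6
  rwa [Ideal.unit_mul_mem_iff_mem _ ((isUnit_rs_cst x r e).pow _),
    Ideal.mul_unit_mem_iff_mem _ ((isUnit_rs_cst x r e).pow _)] at h6

theorem isSmallExt_toBase : Art.IsSmallExt (Art.toBase (Art.dual k k)) ∧
    RingHom.ker (Art.toBase (Art.dual k k)).toAlgHom = Ideal.span {(eps : Art.dual k k)} := by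
  have hker : RingHom.ker (Art.toBase (Art.dual k k)).toAlgHom = Ideal.span {(eps : Art.dual k k)} := by
    refine le_antisymm (fun z hz => TangentFin.maximalIdeal_dual ((Art.mem_maximalIdeal_iff _ z).2 hz))
      ((Ideal.span_singleton_le_iff_mem _).2 (RingHom.mem_ker.2 ?_))
    exact res_eps (k := k)
  refine ⟨⟨ArtFunLib.toBase_surjective _, ?_, ⟨⟨_, hker⟩⟩, ?_⟩, hker⟩
  · rw [hker, Ne, Ideal.span_singleton_eq_bot]
    exact eps_ne_zero
  · rw [hker, eq_bot_iff, Ideal.mul_le]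
    intro a ha b hb
    obtain ⟨c, rfl⟩ := Ideal.mem_span_singleton'.1 hb
    rw [Ideal.mem_bot, mul_left_comm, mul_eps a ha, mul_zero]

theorem goodAt_idl (ψ : Normal i) (W : X.affineOpens) : GoodAt x i.ker W (idl x ψ W) := by
  let := (sHom x W.1).toAlgebra
  obtain ⟨J⟩ := (h0 x i.ker).1
  obtain ⟨hs, hker⟩ := isSmallExt_toBase (k := k)
  have hD := isDef x (Art.dual k k) W.1 W.2
  refine good_of_smallExt hs hker hD (isDef x (Art.base k k) W.1 W.2) (bc x _ W.1) (bc_str x _ W.1)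
    (red_bc x _ W.1) (goodAt_fam x i.ker J W) ?_ (fun s hs => ?_) (fun s hs => ?_)
  · have hinj : Function.Injective (red x (Art.base k k) W.1) := by
      refine (injective_iff_map_eq_zero _).2 fun r hr => ?_
      have h := (isDef x (Art.base k k) W.1 W.2).ker_le hr
      rw [show maximalIdeal (Art.base k k) = ⊥ from eq_bot_iff.2 fun a ha =>
        Ideal.mem_bot.2 ((Art.mem_maximalIdeal_iff _ a).1 ha), Ideal.map_bot, Ideal.mem_bot] at h
      exact h
    have hJ := (goodAt_fam x i.ker J W).red_eq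
    refine le_antisymm (Ideal.map_le_iff_le_comap.2 fun s hs => ?_) fun s hs => ?_
    · obtain ⟨m, b, rfl, -⟩ := mem_idl.1 hs
      obtain ⟨j, hj, hje⟩ := (Ideal.mem_map_iff_of_surjective _ (red_surjective x _ W.2)).1
        (hJ.ge (ConormalSection.idealSect_mem i.ker W m))
      rw [Ideal.mem_comap]
      convert hj using 1
      exact hinj (by rw [red_bc, red_pt, hje])
    · have hf : red x _ W.1 s ∈ i.ker.ideal W := hJ.le (Ideal.mem_map_of_mem _ hs)
      obtain ⟨m, hm⟩ := ConormalSection.exists_idealSect_eq i.ker W _ hf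
      obtain ⟨b, hb⟩ := toY_surjective i W (ψ.app W.1 m)
      rw [show s = bc x (Art.toBase (Art.dual k k)) W.1 (pt x W.1 (OmegaSh.idealSect i.ker W.1 m) b) from
        hinj (by rw [red_bc, red_pt, hm])]
      exact Ideal.mem_map_of_mem _ (mem_idl.2 (mem_graph.2 hb.symm))
  · rw [mem_idl, eps_mul]
    refine ⟨0, red x _ W.1 s, by simp [pt], ?_⟩
    rw [map_zero, (toY_eq_zero i W _).2 hs]
  · obtain ⟨m, b, he, h⟩ := mem_idl.1 hs
    rw [eps_mul, show str x _ W.1 eps * cst x _ W.1 (red x _ W.1 s) = pt x W.1 0 (red x _ W.1 s) by simp [pt]] at he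
    obtain ⟨hm, rfl⟩ := pt_inj W he
    rw [← map_zero (OmegaSh.idealSect i.ker W.1)] at hm
    rw [ConormalSection.idealSect_injective i.ker W.1 hm, map_zero] at h
    exact (toY_eq_zero i W _).1 h.symm

theorem exists_obj_of_normal (ψ : Normal i) :
    ∃ z : (localHilb X x i.ker).obj (Art.dual k k), ∀ W, fam x z.1 W = idl x ψ W :=
  exists_obj x i.ker (idl x ψ) (map_idl ψ) (goodAt_idl ψ)

theorem exists_normal (z : (localHilb X x i.ker).obj (Art.dual k k)) :
    ∃ ψ : Normal i, ∀ W, fam x z.1 W = idl x ψ W := by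
  choose b hb using fun (W : X.affineOpens) (m : Γ(ClSub.idealMod i.ker, W.1)) =>
    exists_pt_mem z W (ConormalSection.idealSect_mem i.ker W m)
  have huniq : ∀ (W : X.affineOpens) {f b₁ b₂ : Γ(X, W.1)}, pt x W.1 f b₁ ∈ fam x z.1 W →
      pt x W.1 f b₂ ∈ fam x z.1 W → toY i W.1 b₁ = toY i W.1 b₂ := by
    intro W f b₁ b₂ h₁ h₂
    rw [← sub_eq_zero, ← map_sub, toY_eq_zero]
    refine mem_fam_of_eps z W ?_
    convert sub_mem h₁ h₂ using 1
    simp only [pt, map_sub]
    ring
  obtain ⟨ψ, hψ⟩ := exists_hom_of_affine (M := ClSub.idealMod i.ker) (N := pushO i)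
    (fun W => AddMonoidHom.mk' (fun m => toY i W.1 (b W m)) fun m m' => by
      rw [← map_add]
      refine huniq W (hb W _) ?_
      rw [map_add, ← pt_add]
      exact add_mem (hb W m) (hb W m'))
    (fun W r m => by
      change toY i W.1 _ = r • toY i W.1 _
      rw [← toY_smul]
      refine huniq W (hb W _) ?_
      rw [ConormalSection.idealSect_smul]
      convert Ideal.mul_mem_left (fam x z.1 W) (cst x _ W.1 r) (hb W m) using 1
      simp only [pt, map_mul]
      ring)
    (fun W W' h m => by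
      change (pushO i).presheaf.map _ (toY i W.1 _) = toY i W'.1 _
      rw [toY_map]
      refine huniq W' ?_ (hb W' _)
      rw [idealSect_map i.ker h, ← rs_pt, ← fam_map x z.1 h]
      exact Ideal.mem_map_of_mem _ (hb W m))
  refine ⟨ψ, fun W => ?_⟩
  letI := (sHom x W.1).toAlgebra
  refine (goodAt_fam x i.ker z W).eq_of_le (isDef x _ W.1 W.2) (goodAt_idl ψ W) fun s hs => ?_
  obtain ⟨c, hc⟩ := exists_pt W s
  have hred : red x _ W.1 s ∈ i.ker.ideal W := (goodAt_fam x i.ker z W).le_comap hs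
  obtain ⟨m, hm⟩ := ConormalSection.exists_idealSect_eq i.ker W _ hred
  rw [← hm] at hc
  rw [mem_idl, hc, mem_graph, hψ]
  exact huniq W (hb W m) (hc ▸ hs)

end Groth.Agent.HilbLoc.Normal
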