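import Groth.Agent.HilbLoc.Normal.Tangent
import Groth.Agent.TangentFin.Complex
import Groth.Agent.ArtFunLib.Schlessinger

/-!
# Finiteness of the tangent space of the local Hilbert functor of a proper subscheme
-/

set_option autoImplicit false
set_option linter.unusedSectionVars false
set_option backward.isDefEq.respectTransparency false
universe u

open CategoryTheory CategoryTheory.Limits AlgebraicGeometry IsLocalRing ArtFun TopologicalSpace
open Groth.Agent.DefGlue Groth.Agent.TangentFin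

namespace Groth.Agent.HilbLoc.Normal

variable {k : Type u} [Field k] {X Y : Scheme.{u}} {x : X ⟶ Spec (CommRingCat.of k)} {i : Y ⟶ X}
variable [IsClosedImmersion i]

theorem app_restrict {Z : Scheme.{u}} {A B C : Z.Opens} (h : B ≤ A) (h' : C ≤ B) (s : Γ(Z, A)) :
    Z.presheaf.map (homOfLE h').op (Z.presheaf.map (homOfLE h).op s) =
      Z.presheaf.map (homOfLE (h'.trans h)).op s := res_res h h' s

theorem sect_ext_cover (i : Y ⟶ X) (W : X.Opens) {J : Type*} (V : J → X.affineOpens) (hV : ∀ p : X, ∃ j, p ∈ (V j).1)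
    {s t : Γ(pushO i, W)}
    (h : ∀ (j : J) (W' : X.affineOpens) (hW : W'.1 ≤ W), W'.1 ≤ (V j).1 →
      (pushO i).presheaf.map (homOfLE hW).op s = (pushO i).presheaf.map (homOfLE hW).op t) : s = t := by
  refine TopCat.Sheaf.eq_of_locally_eq' (shf (pushO i))
    (fun P : {P : X.affineOpens × J // P.1.1 ≤ W ∧ P.1.1 ≤ (V P.2).1} => P.1.1.1) W
    (fun P => homOfLE P.2.1) (fun p hp => ?_) s t fun P => h P.1.2 P.1.1 P.2.1 P.2.2
  obtain ⟨j, hj⟩ := hV p
  obtain ⟨_, ⟨W', hW', rfl⟩, hpW, hle⟩ :=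
    X.isBasis_affineOpens.exists_subset_of_mem_open (show p ∈ W ⊓ (V j).1 from ⟨hp, hj⟩) (W ⊓ (V j).1).2
  exact Opens.mem_iSup.2 ⟨⟨(⟨W', hW'⟩, j), fun q hq => (hle hq).1, fun q hq => (hle hq).2⟩, hpW⟩

variable (x i)

theorem finite_tangent [IsProper (i ≫ x)] [IsSeparated x] [QuasiCompact x] [LocallyOfFiniteType x]
    [TangentStr (localHilb X x i.ker)] : Module.Finite k (TangentSpace (localHilb X x i.ker)) := by
  classical
  haveI : IsLocallyNoetherian X := LocallyOfFiniteType.isLocallyNoetherian x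
  haveI : CompactSpace X := QuasiCompact.compactSpace_of_compactSpace x
  haveI : IsSeparated (terminal.from Y) := by
    rw [← terminal.comp_from (i ≫ x)]
    infer_instance
  haveI : IsAffineHom (pullback.diagonal (terminal.from Y)) := inferInstance
  obtain ⟨L, hL⟩ := isCompact_univ.elim_finite_subcover (fun W : X.affineOpens => (W.1 : Set X))
    (fun W => W.1.2) fun p _ => by
      obtain ⟨W, hW⟩ := Opens.mem_iSup.1 ((iSup_affineOpens_eq_top X).ge (Set.mem_univ p))
      exact Set.mem_iUnion.2 ⟨W, hW⟩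
  have hcov : ∀ p : X, ∃ l : L, p ∈ l.1.1 := fun p => by
    obtain ⟨W, hWL, hp⟩ := Set.mem_iUnion₂.1 (hL (Set.mem_univ p))
    exact ⟨⟨W, hWL⟩, hp⟩
  have hfg : ∀ l : L, ∃ (n : ℕ) (g : Fin n → Γ(X, l.1.1)), Ideal.span (Set.range g) = i.ker.ideal l.1 := fun l => by
    haveI := IsLocallyNoetherian.component_noetherian l.1
    exact Submodule.fg_iff_exists_fin_generating_family.1 (IsNoetherian.noetherian (i.ker.ideal l.1))
  choose n g hg using hfg
  haveI : X.IsSeparated := ⟨by rw [← terminal.comp_from x]; infer_instance⟩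
  let Vi : L → L → X.affineOpens := fun l l' => ⟨l.1.1 ⊓ l'.1.1, l.1.2.inf l'.1.2⟩
  have hrel : ∀ (l l' : L) (a : Fin (n l')), ∃ c : Fin (n l) → Γ(X, (Vi l l').1),
      ∑ b, c b * X.presheaf.map (homOfLE (inf_le_left : (Vi l l').1 ≤ l.1.1)).op (g l b) =
        X.presheaf.map (homOfLE (inf_le_right : (Vi l l').1 ≤ l'.1.1)).op (g l' a) := by
    intro l l' a
    have h1 : X.presheaf.map (homOfLE (inf_le_right : (Vi l l').1 ≤ l'.1.1)).op (g l' a) ∈
        i.ker.ideal (Vi l l') := by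
      rw [← i.ker.map_ideal (U := Vi l l') (V := l'.1) (show (Vi l l').1 ≤ l'.1.1 from inf_le_right)]
      exact Ideal.mem_map_of_mem _ (hg l' ▸ Ideal.subset_span ⟨a, rfl⟩)
    rw [← i.ker.map_ideal (U := Vi l l') (V := l.1) (show (Vi l l').1 ≤ l.1.1 from inf_le_left), ← hg l, Ideal.map_span,
      ← Set.range_comp, Ideal.mem_span_range_iff_exists_fun] at h1
    exact h1
  choose c hc using hrel
  let β : Type u := (l : L) × ULift.{u} (Fin (n l))
  let γ : Type u := (p : L × L) × ULift.{u} (Fin (n p.2))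
  let U₀ : PEmpty.{u + 1} → Y.Opens := fun a => a.elim
  let U₁ : β → Y.Opens := fun b => i ⁻¹ᵁ b.1.1.1
  let U₂ : γ → Y.Opens := fun r => i ⁻¹ᵁ (Vi r.1.1 r.1.2).1
  let d₀ : Mat U₀ U₁ := { J := fun _ => PEmpty.{u + 1}, idx := fun _ j => j, le := fun _ j => j.elim,
                          coef := fun _ j => j.elim }
  let d₁ : Mat U₁ U₂ :=
    { J := fun r => Option (ULift.{u} (Fin (n r.1.1)))
      idx := fun r j => j.elim ⟨r.1.2, r.2⟩ fun b => ⟨r.1.1, b⟩
      le := fun r j => match j with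
        | none => i.preimage_mono inf_le_right
        | some b => i.preimage_mono inf_le_left
      coef := fun r j => j.elim (-1) fun b => i.app (Vi r.1.1 r.1.2).1 (c r.1.1 r.1.2 r.2.down b.down) }
  have hsect : ∀ (W : Y.Opens) (φ : Sect U₁ W) (r : γ), d₁.sect W φ r =
      (∑ b : ULift.{u} (Fin (n r.1.1)),
        Y.presheaf.map (homOfLE (inf_le_right : W ⊓ U₂ r ≤ U₂ r)).op
            (i.app (Vi r.1.1 r.1.2).1 (c r.1.1 r.1.2 r.2.down b.down)) *
          Y.presheaf.map (homOfLE (inf_le_inf_left W (i.preimage_mono inf_le_left))).op (φ ⟨r.1.1, b⟩)) -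
        Y.presheaf.map (homOfLE (inf_le_inf_left W (i.preimage_mono inf_le_right))).op (φ ⟨r.1.2, r.2⟩) := by
    intro W φ r
    rw [Mat.sect, Fintype.sum_option]
    simp only [d₁, Option.elim_none, Option.elim_some, map_neg, map_one, neg_mul, one_mul]
    ring
  obtain ⟨N, e, -, hspan⟩ := exists_spanning (i ≫ x) d₀ d₁
    (fun l : L => (⟨i ⁻¹ᵁ l.1.1, l.1.2.preimage i⟩ : Y.affineOpens)) (fun a => a.elim)
    (fun b => b.1.1.2.preimage i) (fun r => (Vi r.1.1 r.1.2).2.preimage i)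
    (fun W v => funext fun r => by
      rw [hsect]
      have h : d₀.sect W v = 0 := funext fun b => Finset.sum_eq_zero fun j _ => j.elim
      simp [h])
    (fun p => hcov (i p))
    (fun l v _ _ => funext fun a => a.elim)
    (fun l φ hφ hsel => ⟨fun a => a.elim, funext fun b => by
      rw [show d₀.sect _ (fun a => a.elim) b = 0 from Finset.sum_eq_zero fun j _ => j.elim]
      have h := congrFun hφ ⟨(l, b.1), b.2⟩
      rw [hsect, Pi.zero_apply] at h
      simp only [hsel ⟨l, _⟩ le_rfl, map_zero, mul_zero, Finset.sum_const_zero, zero_sub, neg_eq_zero] at h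
      refine Eq.symm ?_
      have hle : (i ⁻¹ᵁ l.1.1) ⊓ U₁ b ≤ (i ⁻¹ᵁ l.1.1) ⊓ U₂ ⟨(l, b.1), b.2⟩ := fun p hp => ⟨hp.1, hp.1, hp.2⟩
      have h' := congrArg (Y.presheaf.map (homOfLE hle).op) h
      rw [map_zero, app_restrict] at h'
      rwa [res_self] at h'⟩)
  -- the values on the generators
  have hm : ∀ b : β, ∃ m : Γ(ClSub.idealMod i.ker, b.1.1.1),
      OmegaSh.idealSect i.ker b.1.1.1 m = g b.1 b.2.down := fun b =>
    ConormalSection.exists_idealSect_eq i.ker b.1.1 _ (hg b.1 ▸ Ideal.subset_span ⟨b.2.down, rfl⟩)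
  choose m hm using hm
  have hm' : ∀ (l : L) (b : ULift.{u} (Fin (n l))), OmegaSh.idealSect i.ker l.1.1 (m ⟨l, b⟩) = g l b.down :=
    fun l b => hm ⟨l, b⟩
  let Φ : TangentSpace (localHilb X x i.ker) → Γ(prodMod U₁, ⊤) := fun z =>
    ((fun b => Y.presheaf.map (homOfLE (inf_le_right : (⊤ : Y.Opens) ⊓ U₁ b ≤ U₁ b)).op
      ((homOf z.val).app b.1.1.1 (m b))) : Sect U₁ ⊤)
  letI : Module k Γ(prodMod U₁, ⊤) := Module.compHom _ (show k →+* Γ(Y, ⊤) from Coh.toGlobal (i ≫ x))
  have hΦadd : ∀ z z', Φ (z + z') = Φ z + Φ z' := fun z z' => funext fun b => by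
    obtain ⟨w, hw₁, hw₂⟩ := ArtFunLib.exists_pair (h0 x i.ker) (heps x i.ker) z.val z'.val
    have h1 : (z + z').val = (localHilb X x i.ker).map Art.plus w := by
      rw [← TangentStr.add_eq w, hw₁, hw₂]
      rfl
    change Y.presheaf.map _ ((homOf (z + z').val).app b.1.1.1 (m b)) = _
    rw [h1, homOf_plus, hw₁, hw₂]
    exact map_add (Y.presheaf.map (homOfLE (inf_le_right : (⊤ : Y.Opens) ⊓ U₁ b ≤ U₁ b)).op).hom _ _
  have hΦsmul : ∀ (r : k) z, Φ (r • z) = r • Φ z := fun r z => funext fun b => by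
    have h1 : (r • z).val = (localHilb X x i.ker).map (Art.scale r) z.val := TangentStr.smul_eq r z.val
    change Y.presheaf.map _ ((homOf (r • z).val).app b.1.1.1 (m b)) =
      Y.presheaf.map (homOfLE (inf_le_left : (⊤ : Y.Opens) ⊓ U₁ b ≤ ⊤)).op
        (show Γ(Y, ⊤) from Coh.toGlobal (i ≫ x) r) *
        Y.presheaf.map _ ((homOf z.val).app b.1.1.1 (m b))
    rw [h1, homOf_scale]
    change Y.presheaf.map _ (Y.presheaf.map (homOfLE (le_top : i ⁻¹ᵁ b.1.1.1 ≤ ⊤)).op
      (show Γ(Y, ⊤) from Coh.toGlobal (i ≫ x) r) * (show Γ(Y, i ⁻¹ᵁ b.1.1.1) from (homOf z.val).app b.1.1.1 (m b))) = _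
    rw [map_mul, res_res]
    rfl
  have hinj : Function.Injective Φ := by
    intro z z' h
    refine bijective_homOf.1 (hom_ext_affine fun W f => ?_)
    refine sect_ext_cover i W.1 (fun l : L => l.1) hcov fun l W' hW' hWl => ?_
    rw [← QCohLib.app_map, ← QCohLib.app_map]
    generalize (ClSub.idealMod i.ker).presheaf.map (homOfLE hW').op f = f'
    have hf := ConormalSection.idealSect_mem i.ker W' f'
    rw [← i.ker.map_ideal (U := W') (V := l.1) hWl, ← hg l, Ideal.map_span, ← Set.range_comp,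
      Ideal.mem_span_range_iff_exists_fun] at hf
    obtain ⟨a, ha⟩ := hf
    have hf' : f' = ∑ b, a b • (ClSub.idealMod i.ker).presheaf.map (homOfLE hWl).op (m ⟨l, ⟨b⟩⟩) := by
      refine ConormalSection.idealSect_injective i.ker W'.1 ?_
      simp only [map_sum, ConormalSection.idealSect_smul, idealSect_map, hm']
      exact ha.symm
    rw [hf', map_sum, map_sum]
    refine Finset.sum_congr rfl fun b _ => ?_
    rw [Scheme.Modules.Hom.app_smul, Scheme.Modules.Hom.app_smul, QCohLib.app_map, QCohLib.app_map]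
    have hb := congrArg (Y.presheaf.map (homOfLE (le_inf le_top le_rfl :
      i ⁻¹ᵁ l.1.1 ≤ (⊤ : Y.Opens) ⊓ U₁ ⟨l, ⟨b⟩⟩)).op) (congrFun h ⟨l, ⟨b⟩⟩)
    simp only [Φ, res_res] at hb
    exact congrArg (fun t => a b • (pushO i).presheaf.map (homOfLE hWl).op t)
      ((res_self _ _).symm.trans (hb.trans (res_self _ _)))
  have hker : ∀ z, d₁.sect ⊤ (Φ z) = 0 := fun z => funext fun r => by
    rw [hsect, Pi.zero_apply, sub_eq_zero]
    simp only [Φ, res_res]
    have hl : (Vi r.1.1 r.1.2).1 ≤ r.1.1.1.1 := inf_le_left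
    have hr : (Vi r.1.1 r.1.2).1 ≤ r.1.2.1.1 := inf_le_right
    have e1 : OmegaSh.idealSect i.ker (Vi r.1.1 r.1.2).1
        (∑ b : ULift.{u} (Fin (n r.1.1)), c r.1.1 r.1.2 r.2.down b.down •
          (ClSub.idealMod i.ker).presheaf.map (homOfLE hl).op (m ⟨r.1.1, b⟩)) =
        OmegaSh.idealSect i.ker (Vi r.1.1 r.1.2).1
          ((ClSub.idealMod i.ker).presheaf.map (homOfLE hr).op (m ⟨r.1.2, r.2⟩)) := by
      simp only [map_sum, ConormalSection.idealSect_smul, idealSect_map, hm']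
      rw [← hc r.1.1 r.1.2 r.2.down]
      exact Fintype.sum_equiv Equiv.ulift _ _ fun b => rfl
    have e2 := congrArg ((homOf z.val).app (Vi r.1.1 r.1.2).1) (ConormalSection.idealSect_injective i.ker _ e1)
    simp only [map_sum, Scheme.Modules.Hom.app_smul] at e2
    let ρ : Γ(Y, i ⁻¹ᵁ (Vi r.1.1 r.1.2).1) →+* Γ(Y, (⊤ : Y.Opens) ⊓ U₂ r) :=
      (Y.presheaf.map (homOfLE (inf_le_right : (⊤ : Y.Opens) ⊓ U₂ r ≤ U₂ r)).op).hom
    have e3 : ∀ (b : β) (h : (Vi r.1.1 r.1.2).1 ≤ b.1.1.1),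
        Y.presheaf.map (homOfLE ((inf_le_right : (⊤ : Y.Opens) ⊓ U₂ r ≤ U₂ r).trans (i.preimage_mono h))).op
          ((homOf z.val).app b.1.1.1 (m b)) =
        ρ ((homOf z.val).app (Vi r.1.1 r.1.2).1 ((ClSub.idealMod i.ker).presheaf.map (homOfLE h).op (m b))) := by
      intro b h
      refine Eq.trans ?_ (congrArg ρ (QCohLib.app_map (homOf z.val) h (m b)).symm)
      exact (res_res _ _ _).symm
    refine Eq.trans ?_ ((congrArg ρ e2).trans ((res_res _ _ _).trans (e3 ⟨r.1.2, r.2⟩ hr)).symm)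
    rw [map_sum]
    refine Finset.sum_congr rfl fun b _ => ?_
    refine Eq.trans ?_ (map_mul ρ (i.app (Vi r.1.1 r.1.2).1 (c r.1.1 r.1.2 r.2.down b.down))
      ((homOf z.val).app (Vi r.1.1 r.1.2).1
        ((ClSub.idealMod i.ker).presheaf.map (homOfLE hl).op (m ⟨r.1.1, b⟩)))).symm
    exact congrArg _ ((res_res _ _ _).trans (e3 ⟨r.1.1, b⟩ hl))
  let P : (Fin N → k) →ₗ[k] Γ(prodMod U₁, ⊤) :=
    Fintype.linearCombination k fun j => (show Γ(prodMod U₁, ⊤) from e j)
  have hmem : ∀ z, Φ z ∈ LinearMap.range P := fun z => by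
    obtain ⟨co, v, hv⟩ := hspan (Φ z) (hker z)
    refine ⟨co, Eq.trans ?_ hv⟩
    have h : (d₀.hom.app ⊤ v : Γ(prodMod U₁, ⊤)) = 0 := funext fun b => by
      change d₀.sect ⊤ v b = 0
      exact Finset.sum_eq_zero fun j _ => j.elim
    rw [h, add_zero, Fintype.linearCombination_apply]
    rfl
  let Ψ : TangentSpace (localHilb X x i.ker) →ₗ[k] LinearMap.range P :=
    { toFun := fun z => ⟨Φ z, hmem z⟩
      map_add' := fun z z' => Subtype.ext (hΦadd z z')
      map_smul' := fun r z => Subtype.ext (hΦsmul r z) }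
  exact Module.Finite.of_injective Ψ fun z z' h => hinj (congrArg Subtype.val h)

end Groth.Agent.HilbLoc.Normal
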