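import Groth.Agent.ArtFunLib.Small
import Groth.Agent.ArtFunLib.Functor

/-!
# No tangent vectors and separated fibres: at most one element everywhere
-/

set_option autoImplicit false
universe u v

open CategoryTheory ArtFun ArtFun.Art Groth.Agent.ArtFunLib

namespace Groth.Agent.HilbLoc.Normal

variable {Λ k : Type u} [CommRing Λ] [Field k] [Algebra Λ k] [IsNoetherianRing Λ] [Module.Finite Λ k]
  {F : Art Λ k ⥤ Type v}

theorem subsingleton_of_tangent (h0 : H0 F) (h2 : Heps F) (hsq : HSq F)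
    (hT : Subsingleton (F.obj (dual Λ k))) (A : Art Λ k) : Subsingleton (F.obj A) := by
  refine surj_induction (P := fun C B (f : B ⟶ C) => Subsingleton (F.obj C) → Subsingleton (F.obj B))
    (fun C B e he hC => (map_bijective he).1.subsingleton) (fun C B D q s _ hs hq hC => hq ?_)
    (toBase A) (toBase_surjective A) h0.2
  refine ⟨fun z z' => ?_⟩
  obtain ⟨P, p₁, p₂, hP⟩ := exists_fibreProd s s hs.1
  obtain ⟨g, hg, -⟩ := exists_torsor hs hP
  obtain ⟨δ, hδ₁, hδ₂⟩ := exists_lift hP (g₁ := 𝟙 D) (g₂ := 𝟙 D) rfl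
  obtain ⟨w, hw₁, hw₂⟩ := exists_of_surj (hsq p₁ p₂ s hP hs).2 z z' (Subsingleton.elim _ _)
  have hw : w = F.map δ z := eq_of_inj (h2 p₁ g hg).1
    (by rw [hw₁, ← map_comp', hδ₁, map_id']) (Subsingleton.elim _ _)
  rw [← hw₂, hw, ← map_comp', hδ₂, map_id']

end Groth.Agent.HilbLoc.Normal
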