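import Groth.Agent.HilbLoc.Normal.Family
import Groth.Agent.HilbLoc.Normal.HomH0
import Groth.Agent.ArtFunLib.Split
import Groth.Prelude.Def_Omega2

/-!
# The tangent space of the local Hilbert functor is `H⁰` of the normal sheaf
-/

set_option autoImplicit false
set_option linter.unusedSectionVars false
set_option backward.isDefEq.respectTransparency false
universe u

open CategoryTheory CategoryTheory.Limits AlgebraicGeometry IsLocalRing ArtFun TopologicalSpace
open Groth.Agent.DefGlue

namespace Groth.Agent.HilbLoc.Normal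

variable {k : Type u} [Field k] {X Y : Scheme.{u}} {x : X ⟶ Spec (CommRingCat.of k)} {i : Y ⟶ X}

theorem str_base (A : Art k k) (W : X.Opens) (c : k) :
    str x A W (algebraMap k A c) = cst x A W (sHom x W c) := by
  change sHom (Art.XApr x A) (opn x A W) _ = (pr x A).app W (sHom x W c)
  rw [Scheme.Hom.app_eq_appLE, sHom_appLE, pullback.condition]
  exact (sHom_specMap _ _ _ c).symm

theorem bc_pt (g : Art.dual k k ⟶ Art.dual k k) (c : k) (hg : g eps = algebraMap k _ c * eps)
    (W : X.affineOpens) (f b : Γ(X, W.1)) :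
    bc x g W.1 (pt x W.1 f b) = pt x W.1 f (sHom x W.1 c * b) := by
  simp only [pt, map_add, map_mul, bc_cst, bc_str, hg, str_base]
  ring

theorem scale_eps (c : k) :
    (Art.scale c : Art.dual k k ⟶ Art.dual k k) eps = algebraMap k (Art.dual k k) c * eps :=
  TrivSqZeroExt.ext (mul_zero (M₀ := k) c).symm
    (Eq.trans (mul_one c) (DefAffHull.snd_mul_epsD (algebraMap k (Art.dual k k) c)).symm)

theorem bc_dual2 (g : Art.dual2 k k ⟶ Art.dual k k) (c₀ c₁ : k)
    (h₀ : g (TangentFin.epsD2 0) = algebraMap k _ c₀ * eps)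
    (h₁ : g (TangentFin.epsD2 1) = algebraMap k _ c₁ * eps)
    (W : X.affineOpens) (f : Γ(X, W.1)) (u v : S x (Art.dual2 k k) W.1) :
    bc x g W.1 (cst x _ W.1 f + (str x _ W.1 (TangentFin.epsD2 0) * u + str x _ W.1 (TangentFin.epsD2 1) * v)) =
      pt x W.1 f (sHom x W.1 c₀ * red x _ W.1 u + sHom x W.1 c₁ * red x _ W.1 v) := by
  simp only [map_add, map_mul, bc_cst, bc_str, h₀, h₁, str_base, mul_assoc]
  rw [eps_mul W (bc x g W.1 u), eps_mul W (bc x g W.1 v), red_bc, red_bc]
  simp only [pt, map_add, map_mul]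
  ring

variable [IsClosedImmersion i]

/-- The morphism attached to a first-order deformation. -/
noncomputable def homOf (z : (localHilb X x i.ker).obj (Art.dual k k)) : Normal i :=
  (exists_normal z).choose

theorem fam_eq_idl (z : (localHilb X x i.ker).obj (Art.dual k k)) (W : X.affineOpens) :
    fam x z.1 W = idl x (homOf z) W := (exists_normal z).choose_spec W

theorem mem_fam_iff (z : (localHilb X x i.ker).obj (Art.dual k k)) (W : X.affineOpens)
    (m : Γ(ClSub.idealMod i.ker, W.1)) (b : Γ(X, W.1)) :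
    pt x W.1 (OmegaSh.idealSect i.ker W.1 m) b ∈ fam x z.1 W ↔ (homOf z).app W.1 m = toY i W.1 b := by
  rw [fam_eq_idl, mem_idl, mem_graph]

theorem bijective_homOf : Function.Bijective (homOf (x := x) (i := i)) := by
  refine ⟨fun z z' h => obj_ext x i.ker fun W => by rw [fam_eq_idl, fam_eq_idl, h], fun ψ => ?_⟩
  obtain ⟨z, hz⟩ := exists_obj_of_normal (x := x) ψ
  refine ⟨z, hom_ext_affine fun W m => ?_⟩
  obtain ⟨b, hb⟩ := toY_surjective i W (ψ.app W.1 m)
  rw [← hb, ← mem_fam_iff, hz, mem_idl, mem_graph, hb]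

/-- The vanishing deformation direction. -/
theorem homOf_scale (c : k) (z : (localHilb X x i.ker).obj (Art.dual k k)) :
    homOf ((localHilb X x i.ker).map (Art.scale c) z) =
      homOf z ≫ (Scheme.Modules.pushforward i).map
        (Formal.smulModΓ (Coh.structureModule Y) (Coh.toGlobal (i ≫ x) c)) := by
  refine hom_ext_affine fun W m => ?_
  obtain ⟨b, hb⟩ := toY_surjective i W ((homOf z).app W.1 m)
  have h1 := Ideal.mem_map_of_mem (bc x (Art.scale c : Art.dual k k ⟶ Art.dual k k) W.1)
    ((mem_fam_iff z W m b).2 hb.symm)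
  rw [← fam_obj_map, bc_pt _ c (scale_eps c), mem_fam_iff] at h1
  rw [h1, Scheme.Modules.Hom.comp_app, CategoryTheory.comp_apply, ← hb]
  change i.app W.1 (sHom x W.1 c * b) = sHom (i ≫ x) (i ⁻¹ᵁ W.1) c * i.app W.1 b
  rw [map_mul, ← sHom_appLE i x W.1 (i ⁻¹ᵁ W.1) le_rfl c, ← Scheme.Hom.app_eq_appLE]

theorem homOf_plus (z : (localHilb X x i.ker).obj (Art.dual2 k k)) :
    homOf ((localHilb X x i.ker).map Art.plus z) =
      homOf ((localHilb X x i.ker).map Art.pr₁ z) + homOf ((localHilb X x i.ker).map Art.pr₂ z) := by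
  refine hom_ext_affine fun W m => ?_
  let := (sHom x W.1).toAlgebra
  have hD := isDef x (Art.dual2 k k) W.1 W.2
  obtain ⟨s, hs, hsf⟩ := (goodAt_fam x i.ker z W).exists_lift hD (ConormalSection.idealSect_mem i.ker W m)
  have hk : s - cst x _ W.1 (red x _ W.1 s) ∈
      (Ideal.span (Set.range TangentFin.epsD2)).map (str x (Art.dual2 k k) W.1) :=
    Ideal.map_mono TangentFin.maximalIdeal_dual2
      (mem_maximal_of_red_eq_zero x _ W (by rw [map_sub, red_cst, sub_self]))
  rw [Ideal.map_span, ← Set.range_comp, Ideal.mem_span_range_iff_exists_fun] at hk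
  obtain ⟨w, hw⟩ := hk
  rw [Fin.sum_univ_two, hsf] at hw
  have hs' : s = cst x _ W.1 (OmegaSh.idealSect i.ker W.1 m) +
      (str x _ W.1 (TangentFin.epsD2 0) * w 0 + str x _ W.1 (TangentFin.epsD2 1) * w 1) := by
    rw [mul_comm _ (w 0), mul_comm _ (w 1)]
    exact (sub_eq_iff_eq_add'.1 hw.symm)
  have key : ∀ (g : Art.dual2 k k ⟶ Art.dual k k) (c₀ c₁ : k)
      (h₀ : g (TangentFin.epsD2 0) = algebraMap k _ c₀ * eps)
      (h₁ : g (TangentFin.epsD2 1) = algebraMap k _ c₁ * eps),
      (homOf ((localHilb X x i.ker).map g z)).app W.1 m =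
        toY i W.1 (sHom x W.1 c₀ * red x _ W.1 (w 0) + sHom x W.1 c₁ * red x _ W.1 (w 1)) := by
    intro g c₀ c₁ h₀ h₁
    rw [← mem_fam_iff, fam_obj_map, ← bc_dual2 g c₀ c₁ h₀ h₁, ← hs']
    exact Ideal.mem_map_of_mem _ hs
  change _ = (homOf ((localHilb X x i.ker).map Art.pr₁ z)).app W.1 m +
    (homOf ((localHilb X x i.ker).map Art.pr₂ z)).app W.1 m
  rw [key Art.plus 1 1 ?_ ?_, key Art.pr₁ 1 0 ?_ ?_, key Art.pr₂ 0 1 ?_ ?_]
  · simp only [map_one, map_zero, one_mul, zero_mul, add_zero, zero_add, map_add]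
  all_goals
    simp only [map_one, map_zero, one_mul, zero_mul]
    refine TrivSqZeroExt.ext rfl ?_
    first
      | rfl
      | exact add_zero (1 : k)
      | exact zero_add (1 : k)

/-- The tangent space of the local Hilbert functor is `H⁰` of the normal sheaf. -/
theorem nonempty_tangent_linearEquiv [Y.Over (Spec (CommRingCat.of k))]
    (hY : Y ↘ Spec (CommRingCat.of k) = i ≫ x) [DCoh.HasSheafHom (Omega.conormal i)]
    [TangentStr (localHilb X x i.ker)] :
    Nonempty (TangentSpace (localHilb X x i.ker) ≃ₗ[k]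
      Coh.HH Y ((DCoh.sheafHom (Omega.conormal i)).obj (Coh.structureModule Y)) 0) := by
  obtain ⟨j⟩ := nonempty_hom_linearEquiv_HH (A := k) (Omega.conormal i) (Coh.structureModule Y)
  let adj := Scheme.Modules.pullbackPushforwardAdjunction i
  haveI : (Scheme.Modules.pullback i).Additive := adj.left_adjoint_additive
  let e : TangentSpace (localHilb X x i.ker) → (Omega.conormal i ⟶ Coh.structureModule Y) := fun z =>
    (adj.homEquiv _ _).symm (homOf z.val)
  have hbij : Function.Bijective e := (adj.homEquiv _ _).symm.bijective.comp bijective_homOf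
  have hsmul : ∀ (c : k) z, e (c • z) = c • e z := by
    intro c z
    have h1 : (c • z).val = (localHilb X x i.ker).map (Art.scale c) z.val := TangentStr.smul_eq c z.val
    change (adj.homEquiv _ _).symm (homOf (c • z).val) = c • (adj.homEquiv _ _).symm (homOf z.val)
    rw [h1, homOf_scale, Adjunction.homEquiv_naturality_right_symm, KLin.smul_def, Formal.smulMod,
      KLin.comp_smulModΓ, hY]
  have hadd : ∀ z z', e (z + z') = e z + e z' := by
    intro z z'
    obtain ⟨w, hw₁, hw₂⟩ := ArtFunLib.exists_pair (h0 x i.ker) (heps x i.ker) z.val z'.val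
    have h1 : (z + z').val = (localHilb X x i.ker).map Art.plus w := by
      rw [← TangentStr.add_eq w, hw₁, hw₂]
      rfl
    change (adj.homEquiv _ _).symm (homOf (z + z').val) =
      (adj.homEquiv _ _).symm (homOf z.val) + (adj.homEquiv _ _).symm (homOf z'.val)
    rw [h1, homOf_plus, hw₁, hw₂]
    exact (adj.homAddEquiv _ _).symm.map_add _ _
  exact ⟨(LinearEquiv.ofBijective
    ({ toFun := e, map_add' := hadd, map_smul' := hsmul } :
      TangentSpace (localHilb X x i.ker) →ₗ[k] (Omega.conormal i ⟶ Coh.structureModule Y)) hbij).trans j⟩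

end Groth.Agent.HilbLoc.Normal
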