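import Groth.Agent.ArtFunLib.Tangent
import Mathlib.LinearAlgebra.TensorProduct.Pi
import Mathlib.LinearAlgebra.TensorProduct.Basis

/-!
# Fibres along semismall extensions
-/

set_option autoImplicit false
set_option linter.unusedSectionVars false
universe u v

open CategoryTheory ArtFun ArtFun.Art IsLocalRing Groth.Agent.ArtFunLib
open scoped TensorProduct

namespace Groth.Agent.HilbLoc.Normal

variable {k : Type u} [Field k] {F : Art k k ⥤ Type v}

theorem bijective_tangent_elt (h0 : H0 F) (h2 : Heps F) : ∀ d : ℕ, Function.Bijective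
    fun (x : F.obj (dualN k k d)) (i : Fin d) => F.map (tN (LinearMap.proj i)) x := by
  intro d
  refine ⟨?_, fun v => by
    obtain ⟨x, hx⟩ := exists_tangent_elt h0 h2 d v
    exact ⟨x, funext hx⟩⟩
  induction d with
  | zero =>
    intro x x' _
    have h : ∀ z : F.obj (dualN k k 0), F.map baseToDualN0 (F.map (toBase _) z) = z := fun z => by
      have e : toBase (dualN k k 0) ≫ baseToDualN0 = 𝟙 _ :=
        hom_ext' fun w => TrivSqZeroExt.ext rfl (funext fun i : Fin 0 => Fin.elim0 i)
      rw [← map_comp', e, map_id']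
    rw [← h x, ← h x', H0.eq h0 (F.map (toBase _) x)]
  | succ d ih =>
    intro x x' h
    refine eq_of_inj (h2 _ _ (isFibreProd_dualN d)).1 (ih (funext fun i => ?_)) (congrFun h 0)
    have := congrFun h i.succ
    change F.map (tN (LinearMap.proj i)) (F.map (tailN d) x) = F.map (tN (LinearMap.proj i)) (F.map (tailN d) x')
    rw [← map_comp', ← map_comp']
    exact this

/-- The kernel as a vector space. -/
noncomputable abbrev kerSub {C' C : Art k k} (p : C' ⟶ C) : Submodule k C' :=
  (RingHom.ker p.toAlgHom).restrictScalars k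

theorem exists_semi_torsor {C' C : Art k k} {p : C' ⟶ C} (hp : IsSemismallExt p) [Module.Finite k C']
    {P : Art k k} {p₁ p₂ : P ⟶ C'} (hP : IsFibreProd p₁ p₂ p p) :
    ∃ g : P ⟶ dualN k k (Module.finrank k (kerSub p)),
      IsFibreProd p₁ g (toBase C') (toBase (dualN k k (Module.finrank k (kerSub p)))) := by
  let d := Module.finrank k (kerSub p)
  let b : Module.Basis (Fin d) k (kerSub p) := Module.finBasis k _
  let co : kerSub p ≃ₗ[k] (Fin d → k) := b.equivFun
  have hd : ∀ z : P, p₂ z - p₁ z ∈ kerSub p := fun z => by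
    change p (p₂ z - p₁ z) = 0
    rw [map_sub, ← hP.w_apply, sub_self]
  have hkill : ∀ {a j : C'}, C'.res a = 0 → j ∈ kerSub p → a * j = 0 := fun {a j} ha hj =>
    Ideal.mem_bot.1 (hp.2 ▸ Ideal.mul_mem_mul ((Art.mem_maximalIdeal_iff C' a).2 ha) hj)
  have hsm : ∀ (a : C') {j : C'}, j ∈ kerSub p → a * j = C'.res a • j := fun a j hj => by
    rw [Algebra.smul_def, ← sub_eq_zero, ← sub_mul]
    exact hkill (by rw [map_sub, AlgHom.commutes]; exact sub_self _) hj
  let δ : P → kerSub p := fun z => ⟨p₂ z - p₁ z, hd z⟩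
  have hres : ∀ z, C'.res (p₂ z) = C'.res (p₁ z) := fun z =>
    (Art.res_app p₂ z).trans (Art.res_app p₁ z).symm
  have hδmul : ∀ z w, δ (z * w) = C'.res (p₁ z) • δ w + C'.res (p₁ w) • δ z := fun z w => Subtype.ext (by
    change p₂ (z * w) - p₁ (z * w) = C'.res (p₁ z) • (p₂ w - p₁ w) + C'.res (p₁ w) • (p₂ z - p₁ z)
    rw [← hsm _ (hd w), ← hres w, ← hsm _ (hd z), map_mul, map_mul]
    ring)
  let g : P →ₐ[k] TrivSqZeroExt k (Fin d → k) :=
    { toFun := fun z => (C'.res (p₁ z), co (δ z))
      map_one' := TrivSqZeroExt.ext (by simp) (by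
        have : δ 1 = 0 := Subtype.ext (by simp [δ])
        exact (congrArg co this).trans (map_zero co))
      map_mul' := fun z w => TrivSqZeroExt.ext (by simp <;> rfl) (by
        refine Eq.trans (congrArg co (hδmul z w)) ?_
        rw [TrivSqZeroExt.snd_mul, op_smul_eq_smul, map_add, map_smul, map_smul]
        rfl)
      map_zero' := TrivSqZeroExt.ext (by simp) (by
        have : δ 0 = 0 := Subtype.ext (by simp [δ])
        exact (congrArg co this).trans (map_zero co))
      map_add' := fun z w => TrivSqZeroExt.ext (by simp <;> rfl) (by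
        have : δ (z + w) = δ z + δ w := Subtype.ext (by
          change p₂ (z + w) - p₁ (z + w) = p₂ z - p₁ z + (p₂ w - p₁ w)
          rw [map_add, map_add]; ring)
        exact (congrArg co this).trans (map_add co _ _))
      commutes' := fun l => TrivSqZeroExt.ext (by simp; rfl) (by
        have : δ (algebraMap k P l) = 0 := Subtype.ext (by simp [δ])
        exact (congrArg co this).trans (map_zero co)) }
  refine ⟨⟨g, AlgHom.ext fun z => Art.res_app p₁ z⟩, (eq_toBase _).trans (eq_toBase _).symm,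
    fun z z' h₁ h₂ => hP.inj z z' h₁ ?_, fun c e he => ?_⟩
  · have h := congrArg Subtype.val (co.injective (congrArg TrivSqZeroExt.snd h₂ :))
    change p₂ z - p₁ z = p₂ z' - p₁ z' at h
    rw [h₁] at h
    exact sub_left_inj.1 h
  · let j := co.symm (sndN e)
    obtain ⟨z, hz₁, hz₂⟩ := hP.surj c (c + j.1) (by rw [map_add, show p j.1 = 0 from j.2, add_zero])
    refine ⟨z, hz₁, TrivSqZeroExt.ext ((congrArg C'.res hz₁).trans he) ?_⟩
    change co (δ z) = sndN e
    rw [show δ z = j from Subtype.ext (by change p₂ z - p₁ z = j.1; rw [hz₁, hz₂, add_sub_cancel_left])]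
    exact co.apply_symm_apply _

theorem nonempty_fibre_equiv (h0 : H0 F) (h2 : Heps F)
    (hbij : ∀ ⦃B A A' A'' : Art k k⦄ {p' : B ⟶ A'} {p'' : B ⟶ A''} {f' : A' ⟶ A} {f'' : A'' ⟶ A}
      (h : IsFibreProd p' p'' f' f''), Function.Surjective f'' → Function.Bijective (cmp F h))
    [TangentStr F] {C' C : Art k k} {p : C' ⟶ C} (hp : IsSemismallExt p) [Module.Finite k C']
    {N : Type v} [AddCommGroup N] [Module k N] (eT : TangentSpace F ≃ₗ[k] N)
    (I : F.obj C) (hne : ∃ I', F.map p I' = I) :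
    Nonempty ({I' : F.obj C' // F.map p I' = I} ≃ N ⊗[k] ↥(RingHom.ker p.toAlgHom)) := by
  classical
  obtain ⟨I₀, hI₀⟩ := hne
  obtain ⟨P, p₁, p₂, hP⟩ := exists_fibreProd p p hp.1
  obtain ⟨g, hg⟩ := exists_semi_torsor hp hP
  have hb := hbij hP hp.1
  have hb' := hbij hg (toBase_surjective _)
  choose w hw₁ hw₂ using fun I' : {I' : F.obj C' // F.map p I' = I} =>
    exists_of_surj hb.2 I₀ I'.1 (hI₀.trans I'.2.symm)
  let d := Module.finrank k (kerSub p)
  have hΦ : Function.Bijective fun I' => F.map g (w I') := by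
    refine ⟨fun I' I'' h => Subtype.ext ?_, fun y => ?_⟩
    · rw [← hw₂ I', ← hw₂ I'']
      exact congrArg (F.map p₂) (eq_of_inj hb'.1 ((hw₁ I').trans (hw₁ I'').symm) h)
    · obtain ⟨z, hz₁, hz₂⟩ := exists_of_surj hb'.2 I₀ y (H0.eq h0 _ _)
      have hz : F.map p (F.map p₂ z) = I := by rw [← map_comp', ← hP.w, map_comp', hz₁, hI₀]
      refine ⟨⟨F.map p₂ z, hz⟩, ?_⟩
      change F.map g (w _) = y
      rw [← hz₂, eq_of_inj hb.1 ((hw₁ _).trans hz₁.symm) (hw₂ ⟨F.map p₂ z, hz⟩)]
  let eJ : ↥(RingHom.ker p.toAlgHom) ≃ₗ[k] (Fin d → k) :=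
    (Submodule.restrictScalarsEquiv k C' C' (RingHom.ker p.toAlgHom)).symm.restrictScalars k |>.trans
      (Module.finBasis k (kerSub p)).equivFun
  let e₁ : {I' : F.obj C' // F.map p I' = I} ≃ (Fin d → TangentSpace F) :=
    (Equiv.ofBijective _ hΦ).trans (Equiv.ofBijective _ (bijective_tangent_elt h0 h2 d))
  exact ⟨e₁.trans (((LinearEquiv.piCongrRight fun _ => eT).trans
    ((TensorProduct.piScalarRight k k N (Fin d)).symm.trans
      (TensorProduct.congr (LinearEquiv.refl k N) eJ.symm))).toEquiv)⟩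

end Groth.Agent.HilbLoc.Normal
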